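import Groth.Agent.GluedTopos.Pointwise
import Groth.Agent.GiraudThm.Site
import Groth.Agent.SheafTopos.InverseImage
import Mathlib.CategoryTheory.Presentable.Presheaf
import Mathlib.CategoryTheory.Presentable.Type

/-!
The glued category along an accessible left exact functor is a topos.
-/

set_option autoImplicit false
set_option linter.style.haveILetI false
set_option backward.defeqAttrib.useBackward true
set_option backward.isDefEq.respectTransparency false

universe u

open CategoryTheory CategoryTheory.Limits Opposite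

namespace Groth.Agent.GluedTopos

open SheafTopos.InverseImage

variable {C D : Type u} [SmallCategory C] [SmallCategory D] {J : GrothendieckTopology C}
  {K : GrothendieckTopology D}

/-- An accessible functor sees every section locally on a small set of objects. -/
theorem exists_small_approx (ρ : Sheaf J (Type u) ⥤ Sheaf K (Type u)) [ρ.IsAccessible.{u}] :
    ∃ (Q : Type u) (G : Q → Sheaf J (Type u)), ∀ (X : Sheaf J (Type u)),
      ∃ (I : Type u) (q : I → Q) (g : ∀ i, G (q i) ⟶ X), SGA4.IsEpiFamily fun i => ρ.map (g i) := by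
  obtain ⟨κ, hκ, hρ⟩ := Functor.IsAccessible.exists_cardinal (F := ρ)
  obtain ⟨P, hP, hgen⟩ := HasCardinalFilteredGenerator.exists_generator (Cᵒᵖ ⥤ Type u) κ
  obtain ⟨P', hP', hle⟩ := hP.exists_small_le'
  refine ⟨Shrink.{u} (Subtype P'), fun p => (presheafToSheaf J (Type u)).obj ((equivShrink _).symm p).1, fun X => ?_⟩
  obtain ⟨I, _, _, ⟨pres⟩⟩ := hgen.exists_colimitsOfShape X.obj
  haveI := Functor.preservesColimitsOfShape_of_isCardinalAccessible ρ κ I
  let hcol := isColimitOfPreserves ρ (isColimitOfPreserves (presheafToSheaf J (Type u)) pres.isColimit)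
  choose p hp hpiso using fun i => hle _ (pres.prop_diag_obj i)
  let η : (presheafToSheaf J (Type u)).obj X.obj ≅ X := (sheafificationIso X).symm
  refine ⟨I, fun i => equivShrink _ ⟨p i, hp i⟩,
    fun i => (presheafToSheaf J (Type u)).map (eqToHom (by rw [Equiv.symm_apply_apply]) ≫ (hpiso i).some.inv ≫
      pres.ι.app i) ≫ η.hom, fun Z a b h => ?_⟩
  rw [← cancel_epi (ρ.map η.hom)]
  refine hcol.hom_ext fun i => ?_
  have hi := h i
  simp only [Functor.map_comp, Category.assoc] at hi
  rw [cancel_epi, cancel_epi] at hi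
  exact hi

variable (ρ : Sheaf J (Type u) ⥤ Sheaf K (Type u)) [PreservesFiniteLimits ρ]

theorem exists_detecting [ρ.IsAccessible.{u}] :
    ∃ P : ObjectProperty (Glued J K ρ), ObjectProperty.Small.{u} P ∧ P.IsDetecting := by
  classical
  obtain ⟨Q, G, hG⟩ := exists_small_approx (J := J) (K := K) ρ
  let oR : C → Glued J K ρ := fun c =>
    { left := ⊥_ _, right := (rep J).obj c, hom := initial.to _ }
  let oL : (Σ (e : D) (q : Q), ((rep K).obj e ⟶ ρ.obj (G q))) → Glued J K ρ := fun p =>
    { left := (rep K).obj p.1, right := G p.2.1, hom := p.2.2 }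
  refine ⟨ObjectProperty.ofObj (Sum.elim oR oL), inferInstance, fun X Y f hf => ?_⟩
  have hR : IsIso f.right := by
    haveI : IsIso f.right.hom := by
      haveI : ∀ V, IsIso (f.right.hom.app V) := by
        rintro ⟨c⟩
        rw [isIso_iff_bijective]
        have key : ∀ y : Y.right.obj.obj (op c), ∃! x, f.right.hom.app (op c) x = y := fun y => by
          obtain ⟨k, hk, hku⟩ := hf (oR c) (ObjectProperty.ofObj_apply (Sum.elim oR oL) (Sum.inl c))
            { left := initial.to _, right := (ev J c _).symm y, w := initial.hom_ext _ _ }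
          refine ⟨ev J c _ k.right, ?_, fun x hx => ?_⟩
          · show f.right.hom.app (op c) _ = y
            rw [← ev_comp, show k.right ≫ f.right = (ev J c _).symm y from congrArg CommaMorphism.right hk,
              Equiv.apply_symm_apply]
          · rw [← hku { left := initial.to _, right := (ev J c _).symm x, w := initial.hom_ext _ _ }
              (CommaMorphism.ext (initial.hom_ext _ _) (by
                show (ev J c _).symm x ≫ f.right = (ev J c _).symm y
                rw [ev_symm_comp, hx])), Equiv.apply_symm_apply]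
        exact ⟨fun a b hab => (key _).unique hab rfl, fun y => (key y).exists⟩
      exact NatIso.isIso_of_isIso_app _
    haveI : IsIso ((sheafToPresheaf J (Type u)).map f.right) := this
    exact isIso_of_reflects_iso f.right (sheafToPresheaf J (Type u))
  haveI := hR
  -- local lifts
  have hlift : ∀ (V : Dᵒᵖ) (z : (ρ.obj Y.right).obj.obj V), ∃ S ∈ K V.unop, ∀ ⦃W : D⦄ ⦃k : W ⟶ V.unop⦄, S k →
      ∃ (q : Q) (g : G q ⟶ Y.right) (w : (rep K).obj W ⟶ ρ.obj (G q)),
        w ≫ ρ.map g = (ev K W _).symm ((ρ.obj Y.right).obj.map k.op z) := fun V z => by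
    obtain ⟨I, q, g, hg⟩ := hG Y.right
    obtain ⟨S, hS, hSx⟩ := locally_surjective_of_isEpiFamily _ hg V z
    refine ⟨S, hS, fun W k hk => ?_⟩
    obtain ⟨i, t, ht⟩ := hSx hk
    exact ⟨q i, g i, (ev K W _).symm t, by rw [ev_symm_comp, ht]⟩
  have hsq : ∀ (V : Dᵒᵖ) (a : X.left.obj.obj V),
      (ρ.map f.right).hom.app V (X.hom.hom.app V a) = Y.hom.hom.app V (f.left.hom.app V a) := fun V a =>
    (ConcreteCategory.congr_hom (congrArg (fun m : X.left ⟶ ρ.obj Y.right => m.hom.app V) f.w) a).symm
  have hinj : ∀ (V : Dᵒᵖ) (a b : X.left.obj.obj V), f.left.hom.app V a = f.left.hom.app V b → a = b := by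
    intro V a b hab
    obtain ⟨S, hS, hSx⟩ := hlift V (Y.hom.hom.app V (f.left.hom.app V a))
    refine hom_ext_of_covering hS fun W k hk => ?_
    obtain ⟨q, g, w, hw⟩ := hSx hk
    let T := oL ⟨W, q, w⟩
    let y : T ⟶ Y :=
      { left := (ev K W _).symm (Y.left.obj.map k.op (f.left.hom.app V a))
        right := g
        w := by
          show (ev K W _).symm _ ≫ Y.hom = w ≫ ρ.map g
          rw [ev_symm_comp, hw]
          exact congrArg _ (ConcreteCategory.congr_hom (Y.hom.hom.naturality k.op) _) }
    have hmk : ∀ c : X.left.obj.obj V, f.left.hom.app V c = f.left.hom.app V a →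
        ∃ m : T ⟶ X, m.left = (ev K W _).symm (X.left.obj.map k.op c) ∧ m ≫ f = y := fun c hc => by
      have hn : f.left.hom.app (op W) (X.left.obj.map k.op c) = Y.left.obj.map k.op (f.left.hom.app V a) :=
        (ConcreteCategory.congr_hom (f.left.hom.naturality k.op) c).trans (congrArg (fun t => Y.left.obj.map k.op t) hc)
      refine ⟨{ left := (ev K W _).symm (X.left.obj.map k.op c), right := g ≫ inv f.right, w := ?_ }, rfl, ?_⟩
      · show (ev K W _).symm _ ≫ X.hom = w ≫ ρ.map (g ≫ inv f.right)
        rw [ρ.map_comp, ← Category.assoc, ← cancel_mono (ρ.map f.right), Category.assoc, Category.assoc, ← ρ.map_comp,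
          IsIso.inv_hom_id, ρ.map_id, Category.comp_id, hw, ev_symm_comp]
        refine congrArg _ ?_
        show (ρ.map f.right).hom.app (op W) (X.hom.hom.app (op W) (X.left.obj.map k.op c)) = _
        rw [hsq, hn]
        exact ConcreteCategory.congr_hom (Y.hom.hom.naturality k.op) _
      · refine CommaMorphism.ext ?_ (by simp [y])
        show (ev K W _).symm _ ≫ f.left = (ev K W _).symm _
        rw [ev_symm_comp, hn]
    obtain ⟨ma, ha, ha'⟩ := hmk a rfl
    obtain ⟨mb, hb, hb'⟩ := hmk b hab.symm
    obtain ⟨k', -, hk'⟩ := hf T (ObjectProperty.ofObj_apply (Sum.elim oR oL) (Sum.inr ⟨W, q, w⟩)) y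
    have := congrArg CommaMorphism.left ((hk' ma ha').trans (hk' mb hb').symm)
    rw [ha, hb] at this
    exact (ev K W _).symm.injective this
  have hmono : Mono f.left := by
    haveI : ∀ V, Mono (f.left.hom.app V) := fun V => (mono_iff_injective _).2 fun a b h => hinj V a b h
    haveI : Mono f.left.hom := NatTrans.mono_of_mono_app _
    exact (sheafToPresheaf K (Type u)).mono_of_mono_map this
  have hepi : Epi f.left := by
    rw [← Sheaf.isLocallySurjective_iff_epi]
    refine ⟨fun {V} y => ?_⟩
    obtain ⟨S, hS, hSx⟩ := hlift (op V) (Y.hom.hom.app (op V) y)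
    refine K.superset_covering (fun W k hk => ?_) hS
    obtain ⟨q, g, w, hw⟩ := hSx hk
    let T := oL ⟨W, q, w⟩
    let y' : T ⟶ Y :=
      { left := (ev K W _).symm (Y.left.obj.map k.op y)
        right := g
        w := by
          show (ev K W _).symm _ ≫ Y.hom = w ≫ ρ.map g
          rw [ev_symm_comp, hw]
          exact congrArg _ (ConcreteCategory.congr_hom (Y.hom.hom.naturality k.op) _) }
    obtain ⟨m, hm, -⟩ := hf T (ObjectProperty.ofObj_apply (Sum.elim oR oL) (Sum.inr ⟨W, q, w⟩)) y'
    refine ⟨ev K W _ m.left, ?_⟩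
    show f.left.hom.app (op W) _ = _
    rw [← ev_comp, show m.left ≫ f.left = y'.left from congrArg CommaMorphism.left hm]
    exact Equiv.apply_symm_apply _ _
  haveI : IsIso f.left := isIso_of_mono_of_epi f.left
  exact (Comma.isoMk (asIso f.left) (asIso f.right) f.w).isIso_hom

theorem isTopos_glued [ρ.IsAccessible.{u}] : SGA4.IsTopos.{u + 1, u} (Glued J K ρ) :=
  GiraudThm.giraud hasDisjointUniversalCoproducts isEffectiveUniversalEquivRel (exists_detecting ρ)

end Groth.Agent.GluedTopos
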