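import Groth.Agent.SheafTopos.Giraud
import Groth.Agent.GiraudThm.Basic
import Mathlib.CategoryTheory.Limits.Comma
import Mathlib.CategoryTheory.Sites.LeftExact
import Mathlib.CategoryTheory.Limits.Preserves.Shapes.BinaryProducts
import Mathlib.CategoryTheory.Limits.Preserves.Shapes.Pullbacks

/-!
Giraud's axioms for glued categories of sheaf topoi, checked componentwise.
-/

set_option autoImplicit false
set_option linter.style.haveILetI false
set_option backward.defeqAttrib.useBackward true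
set_option backward.isDefEq.respectTransparency false

universe u v v' w w'

open CategoryTheory CategoryTheory.Limits

namespace Groth.Agent.GluedTopos

/-- A kernel pair of an effective epimorphism is a pushout square. -/
theorem isPushout_kernelPair {E : Type v} [Category.{w} E] {R A B : E} {a b : R ⟶ A} {q : A ⟶ B}
    [EffectiveEpi q] (h : IsPullback a b q q) : IsPushout a b q q := by
  let d : A ⟶ R := h.lift (𝟙 A) (𝟙 A) rfl
  have heq : ∀ s : PushoutCocone a b, s.inl = s.inr := fun s => by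
    have h1 := congrArg (d ≫ ·) s.condition
    simpa [d] using h1
  refine IsPushout.of_isColimit' ⟨h.w⟩ (PushoutCocone.IsColimit.mk _
    (fun s => EffectiveEpi.desc q s.inl fun {T} g₁ g₂ hg => by
      rw [← h.lift_fst g₁ g₂ hg, Category.assoc, s.condition, ← heq s, ← Category.assoc, h.lift_snd])
    (fun s => EffectiveEpi.fac _ _ _) (fun s => (EffectiveEpi.fac _ _ _).trans (heq s)) fun s m h1 _ => ?_)
  rw [← cancel_epi q]
  exact h1.trans (EffectiveEpi.fac _ _ _).symm

/-- Left exact functors preserve equivalence relations. -/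
theorem isEquivRel_map {E : Type v} [Category.{w} E] [HasFiniteLimits E] {E' : Type v'} [Category.{w} E']
    [HasFiniteLimits E'] (F : E ⥤ E') [PreservesFiniteLimits F] {R A : E} {p₁ p₂ : R ⟶ A}
    (h : SGA4.IsEquivRel p₁ p₂) : SGA4.IsEquivRel (F.map p₁) (F.map p₂) := by
  haveI hmono : Mono (prod.lift p₁ p₂) := ⟨fun a b hab => (h _).1 (Prod.ext
    (by simpa using congrArg (· ≫ prod.fst) hab) (by simpa using congrArg (· ≫ prod.snd) hab))⟩
  obtain ⟨r, hr₁, hr₂⟩ := ((h A).2.refl (𝟙 A) : ∃ f, f ≫ p₁ = 𝟙 A ∧ f ≫ p₂ = 𝟙 A)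
  obtain ⟨s, hs₁, hs₂⟩ := (h R).2.symm (⟨𝟙 R, Category.id_comp _, Category.id_comp _⟩ : ∃ f, f ≫ p₁ = p₁ ∧ f ≫ p₂ = p₂)
  obtain ⟨t, ht₁, ht₂⟩ := (h (pullback p₂ p₁)).2.trans
    (⟨pullback.fst p₂ p₁, rfl, rfl⟩ : ∃ f, f ≫ p₁ = pullback.fst p₂ p₁ ≫ p₁ ∧ f ≫ p₂ = pullback.fst p₂ p₁ ≫ p₂)
    (⟨pullback.snd p₂ p₁, pullback.condition.symm, rfl⟩ :
      ∃ f, f ≫ p₁ = pullback.fst p₂ p₁ ≫ p₂ ∧ f ≫ p₂ = pullback.snd p₂ p₁ ≫ p₂)
  intro T
  refine ⟨fun a b hab => ?_, ?_⟩
  · refine (cancel_mono (F.map (prod.lift p₁ p₂))).1 ?_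
    rw [← cancel_mono (prodComparison F A A), Category.assoc, Category.assoc]
    apply prod.hom_ext
    · simpa [← Functor.map_comp] using congrArg Prod.fst hab
    · simpa [← Functor.map_comp] using congrArg Prod.snd hab
  · refine ⟨fun a => ⟨a ≫ F.map r, ?_, ?_⟩, ?_, ?_⟩
    · rw [Category.assoc, ← F.map_comp, hr₁, F.map_id, Category.comp_id]
    · rw [Category.assoc, ← F.map_comp, hr₂, F.map_id, Category.comp_id]
    · rintro a b ⟨f, rfl, rfl⟩
      exact ⟨f ≫ F.map s, by rw [Category.assoc, ← F.map_comp, hs₁], by rw [Category.assoc, ← F.map_comp, hs₂]⟩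
    · rintro a b c ⟨f, rfl, hf⟩ ⟨g, hg, rfl⟩
      have sq := (IsPullback.of_hasPullback p₂ p₁).map F
      have hw : f ≫ F.map p₂ = g ≫ F.map p₁ := hf.trans hg.symm
      refine ⟨sq.lift f g hw ≫ F.map t, ?_, ?_⟩
      · rw [Category.assoc, ← F.map_comp, ht₁, F.map_comp, sq.lift_fst_assoc]
      · rw [Category.assoc, ← F.map_comp, ht₂, F.map_comp, sq.lift_snd_assoc]

variable {C : Type u} [SmallCategory C] (J : GrothendieckTopology C)

/-- Every coproduct of sheaves of sets is van Kampen. -/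
theorem isVanKampen_sheaf {ι : Type u} {F : Discrete ι ⥤ Sheaf J (Type u)} {c : Cocone F} (hc : IsColimit c) :
    IsVanKampenColimit c := by
  let c₀ : Cocone (F ⋙ sheafToPresheaf J (Type u)) := colimit.cocone _
  have h₀ := SheafTopos.presheaf_isVanKampen c₀ (colimit.isColimit _)
  have h₁ : IsVanKampenColimit ((presheafToSheaf J (Type u)).mapCocone c₀) :=
    IsVanKampenColimit.map_reflective (sheafificationAdjunction J (Type u)) h₀
  let e : F ≅ (F ⋙ sheafToPresheaf J (Type u)) ⋙ presheafToSheaf J (Type u) :=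
    (Functor.isoWhiskerLeft F (asIso (sheafificationAdjunction J (Type u)).counit) ≪≫ F.rightUnitor).symm ≪≫
      (Functor.associator _ _ _).symm
  have hv : IsVanKampenColimit ((Cocone.precompose e.hom).obj ((presheafToSheaf J (Type u)).mapCocone c₀)) :=
    h₁.precompose_isIso e.hom
  exact hv.of_iso (hv.isColimit.uniqueUpToIso hc)

/-- The kernel pair of an epimorphism of sheaves of sets is a pushout square. -/
theorem isPushout_of_epi {R A B : Sheaf J (Type u)} {a b : R ⟶ A} {q : A ⟶ B} [Epi q]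
    (h : IsPullback a b q q) : IsPushout a b q q := by
  obtain ⟨Q, π, m, hm, hmono, hπ, -, -⟩ :=
    GiraudThm.exists_image (SheafTopos.isEffectiveUniversalEquivRel J) q
  haveI : Epi m := epi_of_epi_fac hm
  haveI : IsIso m := isIso_of_mono_of_epi m
  haveI : EffectiveEpi q := by
    refine ⟨⟨{ desc := fun e he => inv m ≫ EffectiveEpi.desc π e fun g₁ g₂ hg => he g₁ g₂ (by rw [← hm, reassoc_of% hg])
               fac := fun e he => by simp [← hm]
               uniq := fun e he k hk => ?_ }⟩⟩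
    rw [← cancel_epi q]
    rw [hk]
    simp [← hm]
  exact isPushout_kernelPair h

variable {D : Type u} [SmallCategory D] (K : GrothendieckTopology D) (ρ : Sheaf J (Type u) ⥤ Sheaf K (Type u))
  [PreservesFiniteLimits ρ]

/-- The glued category. -/
abbrev Glued := Comma (𝟭 (Sheaf K (Type u))) ρ

instance preservesFiniteLimits_fst : PreservesFiniteLimits (Comma.fst (𝟭 (Sheaf K (Type u))) ρ) :=
  ⟨fun I _ _ => ⟨fun {F} => preservesLimit_of_preserves_limit_cone
    (Comma.coneOfPreservesIsLimit F (limit.isLimit _) (limit.isLimit _)) (limit.isLimit _)⟩⟩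

instance preservesFiniteLimits_snd : PreservesFiniteLimits (Comma.snd (𝟭 (Sheaf K (Type u))) ρ) :=
  ⟨fun I _ _ => ⟨fun {F} => preservesLimit_of_preserves_limit_cone
    (Comma.coneOfPreservesIsLimit F (limit.isLimit _) (limit.isLimit _)) (limit.isLimit _)⟩⟩

variable {J K ρ}

theorem isInitial_of_components {I : Glued J K ρ} (h₁ : IsInitial I.left) (h₂ : IsInitial I.right) :
    Nonempty (IsInitial I) :=
  ⟨IsInitial.ofUniqueHom (fun Y => ⟨h₁.to _, h₂.to _, h₁.hom_ext _ _⟩)
    fun Y m => CommaMorphism.ext (h₁.hom_ext _ _) (h₂.hom_ext _ _)⟩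

theorem mono_of_components {X Y : Glued J K ρ} (f : X ⟶ Y) [Mono f.left] [Mono f.right] : Mono f :=
  ⟨fun a b h => CommaMorphism.ext ((cancel_mono f.left).1 (congrArg CommaMorphism.left h))
    ((cancel_mono f.right).1 (congrArg CommaMorphism.right h))⟩

theorem isPullback_of_components {P X Y Z : Glued J K ρ} {a : P ⟶ X} {b : P ⟶ Y} {f : X ⟶ Z} {g : Y ⟶ Z}
    (h₁ : IsPullback a.left b.left f.left g.left) (h₂ : IsPullback a.right b.right f.right g.right) :
    IsPullback a b f g := by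
  refine IsPullback.of_isLimit' ⟨CommaMorphism.ext h₁.w h₂.w⟩ (Comma.fstSndJointlyReflectLimit ?_ ?_)
  · exact (PullbackCone.isLimitMapConeEquiv _ _).symm h₁.isLimit
  · exact (PullbackCone.isLimitMapConeEquiv _ _).symm h₂.isLimit

theorem isPushout_of_components {P X Y Z : Glued J K ρ} {a : Z ⟶ X} {b : Z ⟶ Y} {f : X ⟶ P} {g : Y ⟶ P}
    (h₁ : IsPushout a.left b.left f.left g.left) (h₂ : IsPushout a.right b.right f.right g.right) :
    IsPushout a b f g := by
  refine IsPushout.of_isColimit' ⟨CommaMorphism.ext h₁.w h₂.w⟩ (Comma.fstSndJointlyReflectColimit ?_ ?_)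
  · exact (PushoutCocone.isColimitMapCoconeEquiv _ _).symm h₁.isColimit
  · exact (PushoutCocone.isColimitMapCoconeEquiv _ _).symm h₂.isColimit

theorem hasDisjointUniversalCoproducts :
    SGA4.HasDisjointUniversalCoproducts.{u + 1, u} (Glued J K ρ) := by
  intro ι X
  let c := colimit.cocone (Discrete.functor X)
  have hc : IsColimit c := colimit.isColimit _
  have hv₁ := isVanKampen_sheaf K (isColimitOfPreserves (Comma.fst (𝟭 (Sheaf K (Type u))) ρ) hc)
  have hv₂ := isVanKampen_sheaf J (isColimitOfPreserves (Comma.snd (𝟭 (Sheaf K (Type u))) ρ) hc)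
  haveI hm : ∀ i, Mono (Cofan.inj (c : Cofan X) i) := fun i => by
    haveI : Mono (Cofan.inj (c : Cofan X) i).left := mono_of_cofan_isVanKampen hv₁ ⟨i⟩
    haveI : Mono (Cofan.inj (c : Cofan X) i).right := mono_of_cofan_isVanKampen hv₂ ⟨i⟩
    exact mono_of_components _
  have hi : ∀ {i j : ι}, i ≠ j →
      Nonempty (IsInitial (pullback (Cofan.inj (c : Cofan X) i) (Cofan.inj (c : Cofan X) j))) := fun {i j} hij => by
    have sq := IsPullback.of_hasPullback (Cofan.inj (c : Cofan X) i) (Cofan.inj (c : Cofan X) j)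
    refine isInitial_of_components ?_ ?_
    · exact IsInitial.ofIso initialIsInitial
        ((isPullback_initial_to_of_cofan_isVanKampen hv₁ ⟨i⟩ ⟨j⟩ (by simpa using hij)).isoIsPullback _ _
          (sq.map (Comma.fst _ ρ)))
    · exact IsInitial.ofIso initialIsInitial
        ((isPullback_initial_to_of_cofan_isVanKampen hv₂ ⟨i⟩ ⟨j⟩ (by simpa using hij)).isoIsPullback _ _
          (sq.map (Comma.snd _ ρ)))
  refine ⟨c, hc, CoproductDisjoint.of_cofan hc (fun {i j} _ => pullback.cone _ _)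
    (fun {i j} _ => pullback.isLimit _ _) (fun hij => (hi hij).some), ?_⟩
  intro F' c' α f e hα hpb
  obtain ⟨h₁⟩ := hv₁.isUniversal ((Comma.fst _ ρ).mapCocone c') (Functor.whiskerRight α _) f.left
    (by refine NatTrans.ext (funext fun j => ?_); exact congrArg CommaMorphism.left (NatTrans.congr_app e j)) (NatTrans.equifibered_of_discrete _)
    fun j => (hpb j).map (Comma.fst _ ρ)
  obtain ⟨h₂⟩ := hv₂.isUniversal ((Comma.snd _ ρ).mapCocone c') (Functor.whiskerRight α _) f.right
    (by refine NatTrans.ext (funext fun j => ?_); exact congrArg CommaMorphism.right (NatTrans.congr_app e j)) (NatTrans.equifibered_of_discrete _)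
    fun j => (hpb j).map (Comma.snd _ ρ)
  exact ⟨Comma.fstSndJointlyReflectColimit h₁ h₂⟩

theorem component_effective {C' : Type u} [SmallCategory C'] {L : GrothendieckTopology C'}
    (F : Glued J K ρ ⥤ Sheaf L (Type u)) [PreservesFiniteLimits F] [PreservesColimitsOfShape WalkingSpan F]
    {R A B : Glued J K ρ} {p₁ p₂ : R ⟶ A} {π : A ⟶ B} (h : SGA4.IsEquivRel p₁ p₂) (hpo : IsPushout p₁ p₂ π π) :
    IsPullback (F.map p₁) (F.map p₂) (F.map π) (F.map π) ∧
      ∀ (B' : Glued J K ρ) (g : B' ⟶ B), Epi (F.map (pullback.snd π g)) := by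
  obtain ⟨B₁, π₁, hpb₁, hpo₁, -⟩ := SheafTopos.isEffectiveUniversalEquivRel L _ _ _ _ (isEquivRel_map F h)
  let e := hpo₁.isoIsPushout _ _ (hpo.map F)
  have he : π₁ ≫ e.hom = F.map π := hpo₁.inl_isoIsPushout_hom _ _ _
  refine ⟨hpb₁.of_iso (Iso.refl _) (Iso.refl _) (Iso.refl _) e (by simp) (by simp) (by simp [he]) (by simp [he]),
    fun B' g => ?_⟩
  haveI : Epi (F.map π) := ⟨fun a b hab => (hpo.map F).hom_ext hab hab⟩
  haveI := SheafTopos.epi_pullback_snd L (F.map π) (F.map g)
  let i := (IsPullback.of_hasPullback π g).map F |>.isoPullback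
  rw [show F.map (pullback.snd π g) = i.hom ≫ pullback.snd (F.map π) (F.map g) from
    ((IsPullback.of_hasPullback π g).map F).isoPullback_hom_snd.symm]
  infer_instance

theorem isEffectiveUniversalEquivRel (R A : Glued J K ρ) (p₁ p₂ : R ⟶ A) (h : SGA4.IsEquivRel p₁ p₂) :
    SGA4.IsEffectiveUniversalEquivRel p₁ p₂ := by
  have hpo := IsPushout.of_hasPushout p₁ p₂
  obtain ⟨r, hr₁, hr₂⟩ := ((h A).2.refl (𝟙 A) : ∃ f, f ≫ p₁ = 𝟙 A ∧ f ≫ p₂ = 𝟙 A)
  have heq : pushout.inl p₁ p₂ = pushout.inr p₁ p₂ := by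
    have := congrArg (r ≫ ·) hpo.w
    simpa [reassoc_of% hr₁, reassoc_of% hr₂] using this
  rw [← heq] at hpo
  obtain ⟨h₁, e₁⟩ := component_effective (Comma.fst (𝟭 (Sheaf K (Type u))) ρ) h hpo
  obtain ⟨h₂, e₂⟩ := component_effective (Comma.snd (𝟭 (Sheaf K (Type u))) ρ) h hpo
  refine ⟨_, pushout.inl p₁ p₂, isPullback_of_components h₁ h₂, hpo, fun B' g => ?_⟩
  let q := pullback.snd (pushout.inl p₁ p₂) g
  haveI : Epi q.left := e₁ B' g
  haveI : Epi q.right := e₂ B' g
  have hk := IsPullback.of_hasPullback q q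
  have hp : IsPushout (pullback.fst q q) (pullback.snd q q) q q :=
    isPushout_of_components (isPushout_of_epi K (hk.map (Comma.fst _ ρ))) (isPushout_of_epi J (hk.map (Comma.snd _ ρ)))
  exact ⟨⟨{ desc := fun e he => hp.desc e e (he _ _ hk.w)
            fac := fun e he => hp.inl_desc e e (he _ _ hk.w)
            uniq := fun e he k hk' => hp.hom_ext (hk'.trans (hp.inl_desc e e (he _ _ hk.w)).symm)
              (hk'.trans (hp.inr_desc e e (he _ _ hk.w)).symm) }⟩⟩

end Groth.Agent.GluedTopos
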